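import Mathlib
import Groth.Prelude.Def_Smoothing

/-!
Strictly standard powers at a smooth point with stably free differentials.
-/

set_option autoImplicit false
set_option linter.style.haveILetI false
set_option linter.unusedSimpArgs false

universe u

namespace Groth.Agent.StrictFree

open MvPolynomial

/-- Weak Cauchy–Binet: the determinant of a product lies in the ideal of maximal minors. -/
theorem det_mul_mem_span {L : Type*} [CommRing L] {c n : ℕ} (B : Matrix (Fin c) (Fin n) L)
    (C : Matrix (Fin n) (Fin c) L) :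
    (B * C).det ∈ Ideal.span (Set.range fun r : Fin c → Fin n => (C.submatrix r id).det) := by
  classical
  have h : (B * C).det = ∑ r : Fin c → Fin n, (∏ i, B i (r i)) * (C.submatrix r id).det := by
    change Matrix.detRowAlternating (fun i => (B * C) i) = _
    have h1 : (fun i => (B * C) i) = fun i => ∑ k, B i k • (fun j => C k j) := by
      funext i j
      simp [Matrix.mul_apply]
    rw [h1]
    change Matrix.detRowAlternating.toMultilinearMap (fun i => ∑ k, B i k • (fun j => C k j)) = _
    rw [MultilinearMap.map_sum]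
    refine Finset.sum_congr rfl fun r _ => ?_
    rw [MultilinearMap.map_smul_univ, smul_eq_mul]
    rfl
  rw [h]
  exact sum_mem fun r _ => Ideal.mul_mem_left _ _ (Ideal.subset_span ⟨r, rfl⟩)

/-- If `v` splits off, the kernel of `g` and the target add up to the source. -/
theorem nonempty_ker_prod_equiv {L E O : Type*} [CommRing L] [AddCommGroup E] [Module L E]
    [AddCommGroup O] [Module L O] (g : E →ₗ[L] O) (σ : O →ₗ[L] E) (hσ : ∀ w, g (σ w) = w) :
    Nonempty ((LinearMap.ker g × O) ≃ₗ[L] E) :=
  ⟨LinearEquiv.ofLinearMap ((LinearMap.ker g).subtype.coprod σ)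
    ((LinearMap.codRestrict (LinearMap.ker g) (LinearMap.id - σ.comp g)
      (fun v => by simp [hσ])).prod g)
    (LinearMap.ext fun v => by simp)
    (LinearMap.ext fun z => by
      obtain ⟨⟨z, hz⟩, w⟩ := z
      have hz' : g z = 0 := hz
      refine Prod.ext (Subtype.ext ?_) ?_ <;> simp [hσ, hz'])⟩

variable {R A L : Type u} [CommRing R] [CommRing A] [Algebra R A] [CommRing L] [Algebra A L]
  [Algebra R L] [IsScalarTower R A L]

/-- The Jacobian row of a polynomial in the localisation. -/
noncomputable def jac {n : ℕ} (φ : MvPolynomial (Fin n) R →ₐ[R] A) (p : MvPolynomial (Fin n) R) :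
    Fin n → L := fun i => algebraMap A L (φ (pderiv i p))

theorem jac_mul {n : ℕ} (φ : MvPolynomial (Fin n) R →ₐ[R] A) (p q : MvPolynomial (Fin n) R) :
    jac (L := L) φ (p * q) = algebraMap A L (φ p) • jac (L := L) φ q + algebraMap A L (φ q) • jac (L := L) φ p := by
  funext i
  simp only [jac, pderiv_mul, map_add, map_mul, Pi.add_apply, Pi.smul_apply, smul_eq_mul]
  ring

theorem jac_add {n : ℕ} (φ : MvPolynomial (Fin n) R →ₐ[R] A) (p q : MvPolynomial (Fin n) R) :
    jac (L := L) φ (p + q) = jac (L := L) φ p + jac (L := L) φ q := by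
  funext i
  simp [jac]

theorem sum_jac_smul_D {n : ℕ} (φ : MvPolynomial (Fin n) R →ₐ[R] A) (p : MvPolynomial (Fin n) R) :
    ∑ i, jac (L := L) φ p i • KaehlerDifferential.D R L (algebraMap A L (φ (X i))) =
      KaehlerDifferential.D R L (algebraMap A L (φ p)) := by
  classical
  induction p using MvPolynomial.induction_on with
  | C r => simp [jac, ← IsScalarTower.algebraMap_apply]
  | add p q hp hq =>
    simp only [jac_add, Pi.add_apply, add_smul, Finset.sum_add_distrib, hp, hq, map_add]
  | mul_X p j hp =>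
    simp only [jac_mul, Pi.add_apply, Pi.smul_apply, smul_eq_mul, add_smul, Finset.sum_add_distrib,
      mul_smul, ← Finset.smul_sum, hp, map_mul, Derivation.leibniz]
    congr 2
    rw [Finset.sum_eq_single j]
    · simp [jac]
    · intro i _ hij
      simp [jac, pderiv_X_of_ne hij.symm]
    · simp

/-- At a smooth localisation the Jacobian rows of the relations span all relations between the
differentials, and only squares are annihilated. -/
theorem exists_mem_sq_and_span {R A : Type u} [CommRing R] [CommRing A] [Algebra R A] (a : A)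
    [Algebra.Smooth R (Localization.Away a)] {n : ℕ} (φ : MvPolynomial (Fin n) R →ₐ[R] A)
    (hφ : Function.Surjective φ) (a₀ : MvPolynomial (Fin n) R) (ha₀ : φ a₀ = a) :
    (∀ v : Fin n → Localization.Away a,
        (∑ i, v i • KaehlerDifferential.D R (Localization.Away a)
          (algebraMap A (Localization.Away a) (φ (X i)))) = 0 →
        ∃ (w : Localization.Away a) (f : MvPolynomial (Fin n) R), φ f = 0 ∧ IsUnit w ∧
          jac φ f = w • v) ∧
      (∀ f, φ f = 0 → jac (L := Localization.Away a) φ f = 0 →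
        ∃ k : ℕ, a₀ ^ k * f ∈ RingHom.ker φ.toRingHom ^ 2) := by
  classical
  let L := Localization.Away a
  let G := Algebra.Generators.ofAlgHom φ hφ
  have hev : (aeval G.val : MvPolynomial (Fin n) R →ₐ[R] A) = φ :=
    MvPolynomial.algHom_ext fun i => by rw [aeval_X]; rfl
  have hGker : G.ker = RingHom.ker φ.toRingHom := by
    rw [G.ker_eq_ker_aeval_val, hev]; rfl
  have hval : ∀ i, G.val i = φ (X i) := fun i => rfl
  have hrepr : ∀ (f : MvPolynomial (Fin n) R) (hf : f ∈ G.toExtension.ker) (i : Fin n),
      G.cotangentSpaceBasis.repr (G.toExtension.cotangentComplex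
        (Algebra.Extension.Cotangent.mk ⟨f, hf⟩)) i = φ (pderiv i f) := fun f hf i => by
    rw [Algebra.Extension.cotangentComplex_mk]
    refine (G.cotangentSpaceBasis_repr_one_tmul f i).trans ?_
    rw [hev]
  have hunit : ∀ k : ℕ, IsUnit (algebraMap A L (a ^ k)) := fun k => by
    rw [map_pow]; exact (IsLocalization.Away.algebraMap_isUnit a).pow k
  refine ⟨fun v hv => ?_, fun f hf hjac => ?_⟩
  · obtain ⟨b, hb⟩ := IsLocalization.exist_integer_multiples_of_finite (Submonoid.powers a) v
    choose y hy using hb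
    let z : G.toExtension.CotangentSpace := ∑ i, y i • G.cotangentSpaceBasis i
    have hz : KaehlerDifferential.map R R A L (G.toExtension.toKaehler z) = 0 := by
      simp only [z, map_sum, map_smul, Algebra.Generators.toKaehler_cotangentSpaceBasis,
        KaehlerDifferential.map_D, hval]
      calc ∑ i, y i • KaehlerDifferential.D R L (algebraMap A L (φ (X i)))
          = ∑ i, (b : A) • (v i • KaehlerDifferential.D R L (algebraMap A L (φ (X i)))) :=
            Finset.sum_congr rfl fun i _ => by
              rw [← smul_assoc, ← hy i, algebraMap_smul]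
        _ = 0 := by rw [← Finset.smul_sum, hv, smul_zero]
    obtain ⟨s, hs⟩ := IsLocalizedModule.exists_of_eq (S := Submonoid.powers a)
      (f := KaehlerDifferential.map R R A L) (x₁ := G.toExtension.toKaehler z) (x₂ := 0)
      (by rw [hz, map_zero])
    have hs' : G.toExtension.toKaehler ((s : A) • z) = 0 := by
      rw [map_smul]
      simpa [Submonoid.smul_def] using hs
    obtain ⟨x, hx⟩ := (G.toExtension.exact_cotangentComplex_toKaehler _).mp hs'
    obtain ⟨⟨f, hf⟩, rfl⟩ := Algebra.Extension.Cotangent.mk_surjective x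
    refine ⟨algebraMap A L ((s : A) * (b : A)), f, ?_, ?_, funext fun i => ?_⟩
    · have : f ∈ RingHom.ker φ.toRingHom := hGker ▸ hf
      exact this
    · rw [map_mul]
      exact (IsLocalization.map_units L s).mul (IsLocalization.map_units L b)
    · have h := congrArg (fun t => algebraMap A L (G.cotangentSpaceBasis.repr t i)) hx
      simp only [map_smul, Finsupp.smul_apply, smul_eq_mul, z,
        Module.Basis.repr_sum_self] at h
      change algebraMap A L (φ (pderiv i f)) = _
      refine ((congrArg (algebraMap A L) (hrepr f hf i)).symm.trans h).trans ?_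
      rw [map_mul, hy i, Pi.smul_apply, Algebra.smul_def, smul_eq_mul, map_mul, mul_assoc]
  · have hf' : f ∈ G.toExtension.ker := by
      change f ∈ G.ker
      rw [hGker]
      exact hf
    let m := Algebra.Extension.Cotangent.mk (P := G.toExtension) ⟨f, hf'⟩
    have h0 : ∀ i, ∃ k : ℕ, a ^ k * φ (pderiv i f) = 0 := fun i => by
      obtain ⟨⟨_, k, rfl⟩, hk⟩ := (IsLocalization.map_eq_zero_iff (Submonoid.powers a) L _).mp
        (congrFun hjac i)
      exact ⟨k, hk⟩
    choose k hk using h0
    have hd : G.toExtension.cotangentComplex (a ^ (∑ i, k i) • m) = 0 := by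
      refine G.cotangentSpaceBasis.repr.injective (Finsupp.ext fun i => ?_)
      obtain ⟨d, hd⟩ := Nat.exists_eq_add_of_le
        (Finset.single_le_sum (f := k) (fun j _ => Nat.zero_le _) (Finset.mem_univ i))
      rw [map_smul, map_smul, Finsupp.smul_apply, hrepr, smul_eq_mul, map_zero,
        Finsupp.zero_apply, hd, pow_add, mul_right_comm, hk i, zero_mul]
    haveI : Algebra.FormallySmooth R (Localization.Away a) := Algebra.Smooth.formallySmooth
    let z := G.equivH1Cotangent (⟨a ^ (∑ i, k i) • m, hd⟩ : G.toExtension.H1Cotangent)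
    have hz : Algebra.H1Cotangent.map R R A L z = Algebra.H1Cotangent.map R R A L 0 :=
      Subsingleton.elim _ _
    obtain ⟨⟨_, j, rfl⟩, hs⟩ := IsLocalizedModule.exists_of_eq (S := Submonoid.powers a) hz
    have h1 : (a ^ j : A) • z = 0 := by
      rw [smul_zero] at hs
      exact hs
    have h1' : G.equivH1Cotangent
        ((a ^ j : A) • (⟨a ^ (∑ i, k i) • m, hd⟩ : G.toExtension.H1Cotangent)) = 0 :=
      (map_smul G.equivH1Cotangent _ _).trans h1
    have h2 : (a ^ j : A) • (a ^ (∑ i, k i) • m) = 0 :=
      congrArg Subtype.val (G.equivH1Cotangent.injective (h1'.trans (map_zero _).symm))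
    refine ⟨j + ∑ i, k i, ?_⟩
    let c : G.toExtension.Ring := a₀ ^ (j + ∑ i, k i)
    have hev' : algebraMap G.toExtension.Ring A c = a ^ (j + ∑ i, k i) := by
      change (aeval G.val : MvPolynomial (Fin n) R →ₐ[R] A) (a₀ ^ (j + ∑ i, k i)) = _
      rw [hev, map_pow, ha₀]
    have h3 : Algebra.Extension.Cotangent.mk (P := G.toExtension)
        (c • (⟨f, hf'⟩ : G.toExtension.ker)) = 0 := by
      rw [map_smul, ← algebraMap_smul A c, hev', pow_add, mul_smul]
      exact h2
    rw [Algebra.Extension.Cotangent.mk_eq_zero_iff] at h3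
    change a₀ ^ (j + ∑ i, k i) * f ∈ G.ker ^ 2 at h3
    rwa [hGker] at h3

theorem exists_strictly {R A : Type u} [CommRing R] [CommRing A] [Algebra R A]
    [Algebra.FinitePresentation R A] (a : A) [Algebra.Smooth R (Localization.Away a)] (p q : ℕ)
    (e : (Ω[Localization.Away a⁄R] × (Fin p → Localization.Away a)) ≃ₗ[Localization.Away a]
      (Fin q → Localization.Away a)) :
    ∃ e₀ : ℕ, ∀ n : ℕ, e₀ ≤ n → Smoothing.IsStrictlyStandard R A (a ^ n) := by
  classical
  obtain ⟨N, φ₀, hφ₀, hker₀⟩ := (inferInstance : Algebra.FinitePresentation R A).out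
  rcases subsingleton_or_nontrivial (Localization.Away a) with hL | hL
  · obtain ⟨⟨_, k, rfl⟩, hk⟩ := (IsLocalization.map_eq_zero_iff (Submonoid.powers a)
      (Localization.Away a) (1 : A)).mp (Subsingleton.elim _ _)
    obtain ⟨m, rel, hrel⟩ := Submodule.fg_iff_exists_fin_generating_family.mp hker₀
    refine ⟨k, fun n hn => ⟨⟨N, m, 0, Nat.zero_le _, Nat.zero_le _, rel, φ₀, hφ₀, hrel.symm⟩, ?_,
      fun b hb j _ => ?_⟩⟩
    all_goals
      have h0 : a ^ n = 0 := by
        have : a ^ k = 0 := by simpa using hk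
        exact pow_eq_zero_of_le hn this
    · rw [h0]; exact zero_mem _
    · refine Submodule.mem_sup_right ?_
      rw [sq]
      refine Ideal.mul_mem_mul ?_ (Ideal.subset_span ⟨j, rfl⟩)
      change b ∈ Ideal.span (Set.range rel)
      have hb' : b ∈ RingHom.ker φ₀.toRingHom := hb.trans h0
      have hk' : RingHom.ker φ₀.toRingHom = Ideal.span (Set.range rel) := hrel.symm
      exact (SetLike.ext_iff.mp hk' b).mp hb'
  let L := Localization.Away a
  haveI : Algebra.FormallySmooth R L := Algebra.Smooth.formallySmooth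
  have hpq : p ≤ q := le_of_fin_surjective L
    ((LinearMap.snd L Ω[L⁄R] (Fin p → L)).comp e.symm.toLinearMap)
    (Prod.snd_surjective.comp e.symm.surjective)
  let φ : MvPolynomial (Fin (N + q)) R →ₐ[R] A := aeval (Fin.append (fun i => φ₀ (X i)) (fun _ => 0))
  have hφ : Function.Surjective φ := by
    intro y
    obtain ⟨r, rfl⟩ := hφ₀ y
    exact ⟨rename (Fin.castAdd q) r, by
      change aeval _ (rename _ r) = _
      rw [aeval_rename]
      exact congrArg (fun t : MvPolynomial (Fin N) R →ₐ[R] A => t r)
        (MvPolynomial.algHom_ext fun i => by simp)⟩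
  have hkerφ : (RingHom.ker φ.toRingHom).FG := Algebra.FinitePresentation.ker_fG_of_surjective φ hφ
  obtain ⟨a₀, ha₀⟩ := hφ a
  obtain ⟨hspan, hsq⟩ := exists_mem_sq_and_span a φ hφ a₀ ha₀
  let D := KaehlerDifferential.D R L
  let g : (Fin (N + q) → L) →ₗ[L] Ω[L⁄R] :=
    Fintype.linearCombination L fun i => D (algebraMap A L (φ (X i)))
  let g₀ : (Fin N → L) →ₗ[L] Ω[L⁄R] :=
    Fintype.linearCombination L fun i => D (algebraMap A L (φ₀ (X i)))
  have hgapp : ∀ v, g v = g₀ (fun i => v (Fin.castAdd q i)) := fun v => by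
    simp only [g, g₀, Fintype.linearCombination_apply, Fin.sum_univ_add, φ, aeval_X,
      Fin.append_left, Fin.append_right, map_zero, smul_zero, Finset.sum_const_zero, add_zero]
  have hg₀ : Function.Surjective g₀ := by
    rw [← LinearMap.range_eq_top, eq_top_iff,
      ← KaehlerDifferential.span_range_map_derivation_of_isLocalization R A L (Submonoid.powers a),
      Submodule.span_le]
    rintro _ ⟨y, rfl⟩
    obtain ⟨r, rfl⟩ := hφ₀ y
    exact ⟨jac φ₀ r, by
      rw [Fintype.linearCombination_apply, sum_jac_smul_D, Function.comp_apply,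
        KaehlerDifferential.map_D]⟩
  obtain ⟨σ₀, hσ₀⟩ := Module.projective_lifting_property g₀ LinearMap.id hg₀
  obtain ⟨e₁⟩ := nonempty_ker_prod_equiv g₀ σ₀ (LinearMap.congr_fun hσ₀)
  let e₂ : LinearMap.ker g ≃ₗ[L] LinearMap.ker g₀ × (Fin q → L) :=
    { toFun := fun v => (⟨fun i => v.1 (Fin.castAdd q i), by
        rw [LinearMap.mem_ker, ← hgapp]; exact v.2⟩, fun j => v.1 (Fin.natAdd N j))
      map_add' := fun v w => rfl
      map_smul' := fun t v => rfl
      invFun := fun z => ⟨Fin.append z.1.1 z.2, by
        rw [LinearMap.mem_ker, hgapp]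
        simp only [Fin.append_left]
        exact z.1.2⟩
      left_inv := fun v => Subtype.ext Fin.append_castAdd_natAdd
      right_inv := fun z => by
        refine Prod.ext (Subtype.ext (funext fun i => ?_)) (funext fun j => ?_) <;> simp }
  let e₃ : LinearMap.ker g ≃ₗ[L] (Fin (N + p) → L) :=
    e₂.trans <| ((LinearEquiv.refl L _).prodCongr e.symm).trans <|
      (LinearEquiv.prodAssoc L _ _ _).symm.trans <| (e₁.prodCongr (LinearEquiv.refl L _)).trans <|
        (LinearEquiv.sumArrowLequivProdArrow (Fin N) (Fin p) L L).symm.trans <|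
          LinearEquiv.funCongrLeft L L finSumFinEquiv.symm
  let bK : Fin (N + p) → Fin (N + q) → L := fun j => (e₃.symm (Pi.single j 1)).1
  have hbK : ∀ j, (∑ i, bK j i • D (algebraMap A L (φ (X i)))) = 0 := fun j => by
    rw [← Fintype.linearCombination_apply]
    exact (e₃.symm (Pi.single j 1)).2
  choose w f hf hw hwf using fun j => hspan (bK j) (hbK j)
  have hmemker : ∀ r, φ r = 0 → jac φ r ∈ LinearMap.ker g := fun r hr => by
    rw [LinearMap.mem_ker, Fintype.linearCombination_apply, sum_jac_smul_D, hr, map_zero, map_zero]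
  have hcoef : ∀ r, φ r = 0 → ∃ (k : ℕ) (c : Fin (N + p) → MvPolynomial (Fin (N + q)) R),
      jac (L := L) φ (a₀ ^ k * r - ∑ j, c j * f j) = 0 := by
    intro r hr
    let v : LinearMap.ker g := ⟨jac φ r, hmemker r hr⟩
    have hv : jac (L := L) φ r = ∑ j, e₃ v j • bK j := by
      have h1 : e₃ v = ∑ j, e₃ v j • (Pi.single j (1 : L) : Fin (N + p) → L) :=
        pi_eq_sum_univ' (e₃ v)
      have h2 := congrArg (fun t => ((e₃.symm t : LinearMap.ker g) : Fin (N + q) → L)) h1
      simpa [v, bK] using h2
    let t : Fin (N + p) → L := fun j => e₃ v j * ((hw j).unit⁻¹ : Lˣ)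
    obtain ⟨⟨_, k, rfl⟩, hk⟩ := IsLocalization.exist_integer_multiples_of_finite (Submonoid.powers a) t
    choose y hy using hk
    choose c hc using fun j => hφ (y j)
    refine ⟨k, c, ?_⟩
    have h3 : jac (L := L) φ (a₀ ^ k * r) = algebraMap A L (a ^ k) • jac (L := L) φ r := by
      rw [jac_mul, hr, map_zero, zero_smul, add_zero, map_pow, ha₀]
    have h4 : jac (L := L) φ (∑ j, c j * f j) = algebraMap A L (a ^ k) • jac (L := L) φ r := by
      let J : MvPolynomial (Fin (N + q)) R →+ (Fin (N + q) → L) :=
        AddMonoidHom.mk' (jac φ) (jac_add φ)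
      change J (∑ j, c j * f j) = _
      rw [map_sum, hv, Finset.smul_sum]
      refine Finset.sum_congr rfl fun j _ => ?_
      change jac (L := L) φ (c j * f j) = _
      rw [jac_mul, hf, map_zero, zero_smul, add_zero, hc, hy, hwf, smul_smul, smul_smul]
      congr 1
      change ((a ^ k : A) • t j) * w j = _
      rw [Algebra.smul_def]
      simp only [t, mul_assoc, IsUnit.val_inv_mul, mul_one]
    let J : MvPolynomial (Fin (N + q)) R →+ (Fin (N + q) → L) :=
      AddMonoidHom.mk' (jac φ) (jac_add φ)
    change J (_ - _) = 0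
    rw [map_sub, show J (a₀ ^ k * r) = _ from h3, show J (∑ j, c j * f j) = _ from h4, sub_self]
  obtain ⟨M, gens, hgens⟩ := Submodule.fg_iff_exists_fin_generating_family.mp hkerφ
  have hgens' : RingHom.ker φ.toRingHom = Ideal.span (Set.range gens) := hgens.symm
  have htail : ∀ i, ∃ k : ℕ,
      a₀ ^ k * gens i ∈ Ideal.span (Set.range f) ⊔ RingHom.ker φ.toRingHom ^ 2 := by
    intro i
    have h0 : φ (gens i) = 0 := by
      have : gens i ∈ RingHom.ker φ.toRingHom := hgens' ▸ Ideal.subset_span ⟨i, rfl⟩
      exact this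
    obtain ⟨k, c, hkc⟩ := hcoef _ h0
    have h1 : φ (a₀ ^ k * gens i - ∑ j, c j * f j) = 0 := by simp [h0, hf]
    obtain ⟨l, hl⟩ := hsq _ h1 hkc
    refine ⟨l + k, ?_⟩
    rw [show a₀ ^ (l + k) * gens i = a₀ ^ l * (∑ j, c j * f j) +
      a₀ ^ l * (a₀ ^ k * gens i - ∑ j, c j * f j) by rw [pow_add]; ring]
    exact add_mem (Submodule.mem_sup_left (Ideal.mul_mem_left _ _
      (sum_mem fun j _ => Ideal.mul_mem_left _ _ (Ideal.subset_span ⟨j, rfl⟩))))
      (Submodule.mem_sup_right hl)
  choose k hk using htail
  let rel : Fin (N + p + M) → MvPolynomial (Fin (N + q)) R := Fin.append f gens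
  have hrel : RingHom.ker φ.toRingHom = Ideal.span (Set.range rel) := by
    refine le_antisymm ?_ (Ideal.span_le.mpr ?_)
    · rw [hgens']
      refine Ideal.span_mono ?_
      rintro _ ⟨i, rfl⟩
      exact ⟨Fin.natAdd _ i, Fin.append_right _ _ _⟩
    · rintro _ ⟨l, rfl⟩
      induction l using Fin.addCases with
      | left i => rw [show rel (Fin.castAdd M i) = f i from Fin.append_left _ _ _]; exact hf i
      | right i =>
        rw [show rel (Fin.natAdd _ i) = gens i from Fin.append_right _ _ _, SetLike.mem_coe, hgens']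
        exact Ideal.subset_span ⟨i, rfl⟩
  obtain ⟨σ, hσ⟩ : ∃ σ : Ω[L⁄R] →ₗ[L] (Fin (N + q) → L), ∀ w, g (σ w) = w := by
    refine ⟨(LinearMap.pi fun i => Fin.addCases (fun i => LinearMap.proj i ∘ₗ σ₀) (fun _ => 0) i),
      fun w => ?_⟩
    rw [hgapp]
    simp only [LinearMap.pi_apply, Fin.addCases_left, LinearMap.comp_apply, LinearMap.proj_apply]
    exact LinearMap.congr_fun hσ₀ w
  let π : (Fin (N + q) → L) →ₗ[L] (Fin (N + p) → L) := e₃.toLinearMap.comp
    (LinearMap.codRestrict (LinearMap.ker g) (LinearMap.id - σ.comp g) (fun v => by simp [hσ]))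
  have hπ : ∀ j, π (jac φ (f j)) = Pi.single j (w j) := by
    intro j
    have h1 : (LinearMap.codRestrict (LinearMap.ker g) (LinearMap.id - σ.comp g)
        (fun v => by simp [hσ]) (jac φ (f j))) = w j • e₃.symm (Pi.single j 1) := by
      refine Subtype.ext ?_
      have h2 : g (jac φ (f j)) = 0 := hmemker _ (hf j)
      simp only [LinearMap.codRestrict_apply, LinearMap.sub_apply, LinearMap.id_apply,
        LinearMap.comp_apply, h2, map_zero, sub_zero, SetLike.val_smul]
      exact hwf j
    simp only [π, LinearMap.comp_apply, LinearEquiv.coe_coe, h1, map_smul,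
      LinearEquiv.apply_symm_apply]
    rw [← Pi.single_smul, smul_eq_mul, mul_one]
  have hmin : (1 : L) ∈ (Ideal.span (Set.range fun cols : Fin (N + p) → Fin (N + q) =>
      φ (Smoothing.jacobianMinor rel (Fin.castAdd M) cols))).map (algebraMap A L) := by
    let B : Matrix (Fin (N + p)) (Fin (N + q)) L := LinearMap.toMatrix' π
    let C : Matrix (Fin (N + q)) (Fin (N + p)) L := Matrix.of fun i j => jac φ (f j) i
    have hBC : B * C = Matrix.diagonal w := by
      ext i j
      have h : (B.mulVec (jac φ (f j))) i = (π (jac φ (f j))) i := by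
        rw [LinearMap.toMatrix'_mulVec]
      rw [hπ] at h
      rw [Matrix.diagonal_apply]
      rw [show (B * C) i j = B.mulVec (jac φ (f j)) i from rfl, h, Pi.single_apply]
      split_ifs with h1 <;> simp [h1]
    have hu : IsUnit (B * C).det := by
      rw [hBC, Matrix.det_diagonal]
      exact IsUnit.prod_univ_iff.mpr hw
    have hle : Ideal.span (Set.range fun r : Fin (N + p) → Fin (N + q) => (C.submatrix r id).det) ≤
        (Ideal.span (Set.range fun cols : Fin (N + p) → Fin (N + q) =>
          φ (Smoothing.jacobianMinor rel (Fin.castAdd M) cols))).map (algebraMap A L) := by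
      rw [Ideal.span_le]
      rintro _ ⟨cols, rfl⟩
      have h : (C.submatrix cols id).det =
          algebraMap A L (φ (Smoothing.jacobianMinor rel (Fin.castAdd M) cols)) := by
        rw [← Matrix.det_transpose]
        simp only [Smoothing.jacobianMinor]
        change _ = ((algebraMap A L).comp φ.toRingHom) _
        rw [RingHom.map_det]
        refine congrArg Matrix.det (Matrix.ext fun i j => ?_)
        simp [C, jac, rel]
      change (C.submatrix cols id).det ∈ _
      rw [h]
      exact Ideal.mem_map_of_mem _ (Ideal.subset_span ⟨cols, rfl⟩)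
    have := hle (det_mul_mem_span B C)
    rw [Ideal.eq_top_of_isUnit_mem _ this hu]
    trivial
  rw [← map_one (algebraMap A L), IsLocalization.algebraMap_mem_map_algebraMap_iff
    (Submonoid.powers a)] at hmin
  obtain ⟨_, ⟨l, rfl⟩, hl⟩ := hmin
  rw [mul_one] at hl
  refine ⟨l + ∑ i, k i, fun n hn => ⟨⟨N + q, N + p + M, N + p, Nat.add_le_add_left hpq N,
    Nat.le_add_right _ _, rel, φ, hφ, hrel⟩, ?_, fun b hb j hj => ?_⟩⟩
  · rw [← Nat.add_sub_cancel' (show l ≤ n by omega), pow_add]
    exact Ideal.mul_mem_right _ _ hl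
  · have hsup : Ideal.span (Set.range f) ⊔ RingHom.ker φ.toRingHom ^ 2 ≤
        Ideal.span (rel '' {j' | (j' : ℕ) < N + p}) ⊔ Ideal.span (Set.range rel) ^ 2 := by
      rw [← hrel]
      refine sup_le_sup (Ideal.span_mono ?_) le_rfl
      rintro _ ⟨i, rfl⟩
      exact ⟨Fin.castAdd M i, i.2, Fin.append_left _ _ _⟩
    change b * rel j ∈ Ideal.span (rel '' {j' | (j' : ℕ) < N + p}) ⊔ Ideal.span (Set.range rel) ^ 2
    induction j using Fin.addCases with
    | left i => exact absurd hj (not_le.mpr i.2)
    | right i =>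
      have h0 : b - a₀ ^ n ∈ Ideal.span (Set.range rel) := by
        rw [← hrel, RingHom.mem_ker]
        change φ (b - a₀ ^ n) = 0
        rw [map_sub, map_pow, ha₀]
        exact sub_eq_zero.mpr hb
      rw [show b * rel (Fin.natAdd _ i) = (b - a₀ ^ n) * rel (Fin.natAdd _ i) +
        a₀ ^ n * rel (Fin.natAdd _ i) by ring]
      refine add_mem (Submodule.mem_sup_right ?_) ?_
      · rw [sq]; exact Ideal.mul_mem_mul h0 (Ideal.subset_span ⟨_, rfl⟩)
      · have hki : k i ≤ n := le_trans (le_trans
          (Finset.single_le_sum (f := k) (fun _ _ => Nat.zero_le _) (Finset.mem_univ i))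
          (Nat.le_add_left _ _)) hn
        rw [← Nat.sub_add_cancel hki, pow_add, mul_assoc,
          show rel (Fin.natAdd _ i) = gens i from Fin.append_right _ _ _]
        exact Ideal.mul_mem_left _ _ (hsup (hk i))

end Groth.Agent.StrictFree
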